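import Cfsg.Agent.Known.SpTwoGen.Centres

/-! # Two generators for symplectic groups -/

set_option autoImplicit false
set_option linter.style.haveILetI false

namespace Cfsg.Lib.SpTwoGen

open Cfsg.Lib.Classical

universe u

variable {F : Type u} [Field F] {m : ℕ}

local notation "Bs" => sympBilin m F
local notation "hAlt" => sympBilin_isAlt m F

/-- An endomorphism preserving the form as an isometry. -/
noncomputable def mkIsom (f : (Fin m ⊕ Fin m → F) →ₗ[F] (Fin m ⊕ Fin m → F))
    (h : ∀ x y, Bs (f x) (f y) = Bs x y) : BilinIsom Bs :=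
  ⟨LinearEquiv.ofInjectiveEndo f (LinearMap.ker_eq_bot.1 ((Submodule.eq_bot_iff _).2 fun x hx =>
      (sympBilin_nondegenerate m F).1 x fun y => by rw [← h, LinearMap.mem_ker.1 hx]; simp)),
    fun x y => by simpa using h x y⟩

@[simp] theorem mkIsom_apply (f : (Fin m ⊕ Fin m → F) →ₗ[F] (Fin m ⊕ Fin m → F))
    (h : ∀ x y, Bs (f x) (f y) = Bs x y) (x : Fin m ⊕ Fin m → F) :
    ((mkIsom f h).1) x = f x := by
  simp [mkIsom]

/-- The element `x ↦ x + c (B(x,u) w + B(x,w) u)` for orthogonal `u`, `w`. -/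
noncomputable def pairT (u w : Fin m ⊕ Fin m → F) (h : Bs u w = 0) (c : F) : BilinIsom Bs :=
  mkIsom (LinearMap.id + c • ((LinearMap.flip Bs u).smulRight w + (LinearMap.flip Bs w).smulRight u))
    fun x y => by
      have hwu : Bs w u = 0 := (hAlt).isRefl _ _ h
      simp only [LinearMap.add_apply, LinearMap.id_apply, LinearMap.smul_apply,
        LinearMap.smulRight_apply, LinearMap.flip_apply, map_add, map_smul, smul_eq_mul, hAlt u, hAlt w,
        h, hwu]
      rw [← (hAlt).neg_eq y u, ← (hAlt).neg_eq y w]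
      ring

theorem pairT_apply (u w : Fin m ⊕ Fin m → F) (h : Bs u w = 0) (c : F) (x : Fin m ⊕ Fin m → F) :
    ((pairT u w h c).1) x = x + c • (Bs x u • w + Bs x w • u) := by
  simp [pairT, LinearMap.flip_apply]

theorem pairT_mul (u w : Fin m ⊕ Fin m → F) (h : Bs u w = 0) (c d : F) :
    pairT u w h c * pairT u w h d = pairT u w h (c + d) := by
  have hwu : Bs w u = 0 := (hAlt).isRefl _ _ h
  refine BilinIsom.ext' fun x => ?_
  rw [BilinIsom.mul_apply', pairT_apply, pairT_apply, pairT_apply]
  simp only [map_add, map_smul, LinearMap.add_apply, LinearMap.smul_apply, smul_eq_mul, hAlt u, hAlt w,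
    h, hwu, mul_zero, add_zero]
  module

theorem pairT_zero (u w : Fin m ⊕ Fin m → F) (h : Bs u w = 0) : pairT u w h 0 = 1 :=
  BilinIsom.ext' fun x => by simp [pairT_apply, BilinIsom.one_apply']

theorem pairT_inv (u w : Fin m ⊕ Fin m → F) (h : Bs u w = 0) (c : F) :
    (pairT u w h c)⁻¹ = pairT u w h (-c) :=
  inv_eq_of_mul_eq_one_right (by rw [pairT_mul, add_neg_cancel, pairT_zero])

/-- Conjugation of `pairT` by an isometry scaling the two vectors. -/
theorem pairT_conj (u w : Fin m ⊕ Fin m → F) (h : Bs u w = 0) (c a b : F) {g : BilinIsom Bs}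
    (hu : ((g).1) u = a • u) (hw : ((g).1) w = b • w) :
    g * pairT u w h c * g⁻¹ = pairT u w h (a * b * c) := by
  refine BilinIsom.ext' fun x => ?_
  obtain ⟨y, rfl⟩ := ((g).1).surjective x
  rw [BilinIsom.mul_apply', BilinIsom.mul_apply', BilinIsom.inv_apply_self, pairT_apply, pairT_apply,
    map_add, map_smul, map_add, map_smul, map_smul, hu, hw, ← BilinIsom.map_form g y u,
    ← BilinIsom.map_form g y w, hu, hw, map_smul, map_smul]
  module

variable {l : ℕ}

local notation "V" => (Fin (l + 1) ⊕ Fin (l + 1) → F)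

/-- The signed cyclic shift of the coordinates. -/
def shiftLin (l : ℕ) (F : Type u) [Field F] :
    (Fin (l + 1) ⊕ Fin (l + 1) → F) →ₗ[F] (Fin (l + 1) ⊕ Fin (l + 1) → F) where
  toFun x := Sum.elim
    (Fin.cons (-x (Sum.inr (Fin.last l))) fun i => x (Sum.inl i.castSucc))
    (Fin.cons (x (Sum.inl (Fin.last l))) fun i => x (Sum.inr i.castSucc))
  map_add' x y := by
    funext j
    rcases j with i | i <;> refine Fin.cases ?_ (fun j => ?_) i <;> simp [add_comm]
  map_smul' c x := by
    funext j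
    rcases j with i | i <;> refine Fin.cases ?_ (fun j => ?_) i <;> simp

theorem shiftLin_form (x y : V) :
    sympBilin (l + 1) F (shiftLin l F x) (shiftLin l F y) = sympBilin (l + 1) F x y := by
  rw [sympBilin_eq_sum, sympBilin_eq_sum, Fin.sum_univ_succ, Fin.sum_univ_castSucc (n := l)]
  simp [shiftLin]
  ring

/-- The signed cyclic shift as an isometry. -/
noncomputable def shift (l : ℕ) (F : Type u) [Field F] : BilinIsom (sympBilin (l + 1) F) :=
  mkIsom (shiftLin l F) shiftLin_form

theorem shift_ev (i : Fin l) :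
    ((shift l F).1) (ev i.castSucc) = ev i.succ := by
  funext j
  rcases j with k | k <;> refine Fin.cases ?_ (fun p => ?_) k <;>
    simp [shift, shiftLin, ev, Pi.single_apply, Fin.succ_ne_zero, eq_comm]

theorem shift_fv (i : Fin l) :
    ((shift l F).1) (fv i.castSucc) = fv i.succ := by
  funext j
  rcases j with k | k <;> refine Fin.cases ?_ (fun p => ?_) k <;>
    simp [shift, shiftLin, fv, Pi.single_apply, Fin.succ_ne_zero, eq_comm]

theorem shift_ev_last : ((shift l F).1) (ev (Fin.last l)) = fv 0 := by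
  funext j
  rcases j with k | k <;> refine Fin.cases ?_ (fun p => ?_) k <;>
    simp [shift, shiftLin, ev, fv, Pi.single_apply, Fin.succ_ne_zero, (Fin.castSucc_lt_last _).ne,
      (Fin.castSucc_lt_last _).ne', eq_comm]

theorem shift_plane {i : Fin l} {x : V} (hx : x ∈ plane i.castSucc F) :
    ((shift l F).1) x ∈ plane i.succ F := by
  intro j hj
  revert hj
  refine Fin.cases (fun _ => ?_) (fun p hp => ?_) j
  · simp [shift, shiftLin, hx _ (Fin.castSucc_lt_last i).ne']
  · simp [shift, shiftLin, hx p.castSucc (fun e => hp (by rw [Fin.castSucc_injective _ e]))]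

theorem closure_centres {H : Subgroup (BilinIsom (sympBilin (l + 1) F))} (hn : shift l F ∈ H)
    (h0 : ev 0 ∈ transCentres (sympBilin_isAlt (l + 1) F) H)
    (hlink : ∀ h1 : 1 < l + 1, ∃ a ∈ plane (0 : Fin (l + 1)) F, ∃ b ∈ plane (⟨1, h1⟩ : Fin (l + 1)) F,
      a ≠ 0 ∧ b ≠ 0 ∧ a + b ∈ transCentres (sympBilin_isAlt (l + 1) F) H) : H = ⊤ := by
  have he : ∀ i : Fin (l + 1), ev i ∈ transCentres (sympBilin_isAlt (l + 1) F) H := by
    intro i
    induction i using Fin.induction with
    | zero => exact h0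
    | succ i ih => rw [← shift_ev]; exact transCentres_map ih hn
  have hf : ∀ i : Fin (l + 1), fv i ∈ transCentres (sympBilin_isAlt (l + 1) F) H := by
    intro i
    induction i using Fin.induction with
    | zero => rw [← shift_ev_last]; exact transCentres_map (he _) hn
    | succ i ih => rw [← shift_fv]; exact transCentres_map ih hn
  refine eq_top_of_links he hf fun i hi => ?_
  suffices h : ∀ k, ∀ hk : k + 1 < l + 1, ∃ a ∈ plane (⟨k, by omega⟩ : Fin (l + 1)) F,
      ∃ b ∈ plane (⟨k + 1, hk⟩ : Fin (l + 1)) F, a ≠ 0 ∧ b ≠ 0 ∧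
        a + b ∈ transCentres (sympBilin_isAlt (l + 1) F) H by
    obtain ⟨k, hk⟩ : ∃ k, i.val = k + 1 := ⟨i.val - 1, by omega⟩
    obtain ⟨a, ha, b, hb, h1, h2, h3⟩ := h k (by omega)
    exact ⟨a, plane_le_below (by simp [hk]) ha, b,
      by rwa [show (⟨k + 1, _⟩ : Fin (l + 1)) = i from Fin.ext hk.symm] at hb, h1, h2, h3⟩
  intro k
  induction k with
  | zero => exact fun hk => hlink hk
  | succ k ih =>
    intro hk
    obtain ⟨a, ha, b, hb, h1, h2, h3⟩ := ih (by omega)
    refine ⟨((shift l F).1) a, ?_, ((shift l F).1) b, ?_,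
      fun e => h1 (((shift l F).1).map_eq_zero_iff.1 e),
      fun e => h2 (((shift l F).1).map_eq_zero_iff.1 e), ?_⟩
    · exact shift_plane (i := ⟨k, by omega⟩) ha
    · exact shift_plane (i := ⟨k + 1, by omega⟩) hb
    · rw [← map_add]; exact transCentres_map h3 hn

/-- Scaling the first pair by `k`, `k⁻¹`. -/
def torLin (i : Fin (l + 1)) (k k' : F) : V →ₗ[F] V where
  toFun x := Sum.elim (fun j => (if j = i then k else 1) * x (Sum.inl j))
    (fun j => (if j = i then k' else 1) * x (Sum.inr j))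
  map_add' x y := by funext j; rcases j with a | a <;> simp [mul_add]
  map_smul' c x := by funext j; rcases j with a | a <;> simp [mul_left_comm]

theorem torLin_form (i : Fin (l + 1)) (k : Fˣ) (x y : V) :
    sympBilin (l + 1) F (torLin i (k : F) (k⁻¹ : Fˣ) x) (torLin i (k : F) (k⁻¹ : Fˣ) y) =
      sympBilin (l + 1) F x y := by
  rw [sympBilin_eq_sum, sympBilin_eq_sum]
  refine Finset.sum_congr rfl fun j _ => ?_
  by_cases h : j = i
  · simp only [torLin, LinearMap.coe_mk, AddHom.coe_mk, Sum.elim_inl, Sum.elim_inr, if_pos h,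
      Units.val_inv_eq_inv_val]
    field_simp
  · simp [torLin, h]

/-- The torus element of one pair. -/
noncomputable def tor (i : Fin (l + 1)) : Fˣ →* BilinIsom (sympBilin (l + 1) F) where
  toFun k := mkIsom (torLin i (k : F) (k⁻¹ : Fˣ)) (torLin_form i k)
  map_one' := BilinIsom.ext' fun x => by
    funext j; rcases j with a | a <;> simp [torLin, BilinIsom.one_apply']
  map_mul' k k' := BilinIsom.ext' fun x => by
    rw [BilinIsom.mul_apply']
    funext j; rcases j with a | a <;> by_cases h : a = i <;> simp [torLin, h, mul_assoc, mul_comm, mul_left_comm]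

theorem tor_apply_plane {i j : Fin (l + 1)} (h : j ≠ i) {x : V} (hx : x ∈ plane j F) (k : Fˣ) :
    ((tor i k).1) x = x := by
  funext p
  rcases p with a | a <;> by_cases ha : a = i
  · subst ha; simp [tor, torLin, (hx a (Ne.symm h)).1]
  · simp [tor, torLin, ha]
  · subst ha; simp [tor, torLin, (hx a (Ne.symm h)).2]
  · simp [tor, torLin, ha]

theorem tor_ev (i : Fin (l + 1)) (k : Fˣ) : ((tor i k).1) (ev i) = (k : F) • ev i := by
  funext p
  rcases p with a | a <;> by_cases ha : a = i <;> simp [tor, torLin, ev, ha]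

theorem tor_fv (i : Fin (l + 1)) (k : Fˣ) : ((tor i k).1) (fv i) = (k : F)⁻¹ • fv i := by
  funext p
  rcases p with a | a <;> by_cases ha : a = i <;> simp [tor, torLin, fv, ha]

theorem shift_tor (i : Fin l) (k : Fˣ) :
    shift l F * tor i.castSucc k * (shift l F)⁻¹ = tor i.succ k := by
  rw [mul_inv_eq_iff_eq_mul]
  refine BilinIsom.ext' fun x => ?_
  rw [BilinIsom.mul_apply', BilinIsom.mul_apply']
  funext j
  rcases j with a | a <;> refine Fin.cases ?_ (fun p => ?_) a <;>
    simp [tor, shift, shiftLin, torLin, (Fin.castSucc_lt_last i).ne', Fin.succ_ne_zero,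
      Ne.symm (Fin.succ_ne_zero i), Fin.succ_inj, Fin.castSucc_inj]

/-- A subgroup of the additive group of a finite field is everything once it contains the powers of
`k` or those of `k²`. -/
theorem addSubgroup_eq_top [Finite F] {A : AddSubgroup F} {k : Fˣ} (hk : ∀ x : Fˣ, x ∈ Subgroup.zpowers k)
    (h : ∀ j : ℕ, (k : F) ^ (2 * j) ∈ A) : A = ⊤ := by
  have := Fintype.ofFinite F
  have hsq : ∀ x : F, x * x ∈ A := by
    intro x
    rcases eq_or_ne x 0 with rfl | hx
    · simp
    obtain ⟨j, hj⟩ := (mem_powers_iff_mem_zpowers (x := k)).2 (hk (Units.mk0 x hx))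
    have e : x = (k : F) ^ j := by
      have := congrArg (fun u : Fˣ => (u : F)) hj
      simpa using this.symm
    rw [e, ← pow_add, ← two_mul]
    exact h j
  refine eq_top_iff.2 fun x _ => ?_
  by_cases h2 : (2 : F) = 0
  · haveI : CharP F 2 := CharTwo.of_one_ne_zero_of_two_eq_zero one_ne_zero h2
    obtain ⟨y, hy⟩ := FiniteField.isSquare_of_char_two (ringChar.eq F 2) x
    exact hy ▸ hsq y
  · have e : x = ((x + 1) / 2) * ((x + 1) / 2) - ((x - 1) / 2) * ((x - 1) / 2) := by
      have h4 : (4 : F) ≠ 0 := by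
        rw [show (4 : F) = 2 * 2 by norm_num]; exact mul_ne_zero h2 h2
      field_simp
      ring
    rw [e]
    exact sub_mem (hsq _) (hsq _)

theorem two_gen_big [Finite F] (hl : 1 ≤ l) (h3 : ∃ x : F, x ≠ 0 ∧ x ≠ 1) :
    ∃ a b : BilinIsom (sympBilin (l + 1) F),
      Subgroup.closure ({a, b} : Set (BilinIsom (sympBilin (l + 1) F))) = ⊤ := by
  classical
  have := Fintype.ofFinite F
  obtain ⟨l, rfl⟩ : ∃ p, l = p + 1 := ⟨l - 1, by omega⟩
  obtain ⟨k, hk⟩ := IsCyclic.exists_generator (α := Fˣ)
  have hk1 : (k : F) ≠ 1 := by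
    intro h1
    obtain ⟨x, hx0, hx1⟩ := h3
    obtain ⟨i, hi⟩ := hk (Units.mk0 x hx0)
    rw [show k = 1 from Units.ext h1] at hi
    exact hx1 (by simpa using (congrArg (fun u : Fˣ => (u : F)) hi).symm)
  set u : (Fin (l + 1 + 1) ⊕ Fin (l + 1 + 1) → F) := ev 0
  set w : (Fin (l + 1 + 1) ⊕ Fin (l + 1 + 1) → F) := ev 1
  have h01 : (0 : Fin (l + 1 + 1)) ≠ 1 := by simp [Fin.ext_iff]
  have huw : sympBilin (l + 1 + 1) F u w = 0 := by
    show sympBilin (l + 1 + 1) F (ev 0) (ev 1) = 0
    rw [bform_ev]; simp [ev]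
  set t := tor (0 : Fin (l + 1 + 1)) k with ht
  set T := sympT (sympBilin_isAlt (l + 1 + 1) F) w 1 with hT
  set g := pairT u w huw with hg
  set n := shift (l + 1) F with hn
  have htw : ((t).1) w = w := tor_apply_plane h01.symm (ev_mem_plane 1) k
  have hcomm : Commute t T := by
    have := sympT_conj (sympBilin_isAlt (l + 1 + 1) F) t w 1
    rw [htw, mul_inv_eq_iff_eq_mul] at this
    exact this
  refine ⟨t * T, g 1 * n, ?_⟩
  set X := Subgroup.closure ({t * T, g 1 * n} : Set (BilinIsom (sympBilin (l + 1 + 1) F)))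
  have haX : t * T ∈ X := Subgroup.subset_closure (Or.inl rfl)
  have hbX : g 1 * n ∈ X := Subgroup.subset_closure (Or.inr rfl)
  have hTpow : ∀ i : ℕ, T ^ i = sympT (sympBilin_isAlt (l + 1 + 1) F) w (i : F) := by
    intro i
    induction i with
    | zero => simp [sympT_zero]
    | succ i ih => rw [pow_succ, ih, hT, ← sympT_add, Nat.cast_succ]
  have hTX : T ∈ X := by
    have h := pow_mem haX (Fintype.card F - 1)
    rw [hcomm.mul_pow, hTpow, ht, ← map_pow, show k ^ (Fintype.card F - 1) = 1 from Units.ext (by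
      rw [Units.val_pow_eq_pow_val, FiniteField.pow_card_sub_one_eq_one _ k.ne_zero, Units.val_one]),
      map_one, one_mul, Nat.cast_sub Fintype.card_pos, FiniteField.cast_card_eq_zero, zero_sub,
      Nat.cast_one] at h
    simpa [sympT_neg] using inv_mem h
  have htX : t ∈ X := (mul_mem_cancel_right hTX).1 haX
  set t' := tor (1 : Fin (l + 1 + 1)) k with ht'
  have hnt : n * t * n⁻¹ = t' := shift_tor 0 k
  have hgt : ∀ c, t * g c * t⁻¹ = g ((k : F) * c) := fun c => by
    have := pairT_conj u w huw c (k : F) 1 (g := t) (tor_ev 0 k) (by rw [htw, one_smul])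
    rwa [mul_one] at this
  have hgt' : ∀ c, t' * g c * t'⁻¹ = g ((k : F) * c) := fun c => by
    have := pairT_conj u w huw c 1 (k : F) (g := t')
      (by rw [one_smul]; exact tor_apply_plane h01 (ev_mem_plane 0) k) (tor_ev 1 k)
    rwa [one_mul] at this
  have hgd : g (((k : F) - 1) * (1 - (k : F))) ∈ X := by
    have hb1 := mul_mem (mul_mem hbX htX) (inv_mem hbX)
    have e : g 1 * n * t * (g 1 * n)⁻¹ = g (1 + -(k : F)) * t' := by
      rw [mul_inv_rev, show g 1 * n * t * (n⁻¹ * (g 1)⁻¹) = g 1 * (n * t * n⁻¹) * (g 1)⁻¹ by group, hnt,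
        hg, pairT_inv, mul_assoc, show t' * g (-1) = g ((k : F) * (-1)) * t' by
          rw [← hgt', inv_mul_cancel_right], ← mul_assoc, hg, pairT_mul]
      ring_nf
    rw [e] at hb1
    have hc : Commute t t' := BilinIsom.ext' fun x => by
      rw [BilinIsom.mul_apply', BilinIsom.mul_apply']
      funext j
      rcases j with a | a <;> by_cases h0 : a = 0 <;> by_cases h1 : a = 1 <;>
        simp [ht, ht', tor, torLin, h0, h1, h01, h01.symm]
    have h := mul_mem (mul_mem (mul_mem htX hb1) (inv_mem htX)) (inv_mem hb1)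
    rwa [← mul_assoc t, mul_assoc (t * g _) t' t⁻¹, hc.inv_left.symm.eq, ← mul_assoc, hgt, mul_inv_rev,
      show g ((k : F) * (1 + -(k : F))) * t' * (t'⁻¹ * (g (1 + -(k : F)))⁻¹) =
        g ((k : F) * (1 + -(k : F))) * (g (1 + -(k : F)))⁻¹ by group, hg, pairT_inv, pairT_mul,
      show (k : F) * (1 + -(k : F)) + -(1 + -(k : F)) = ((k : F) - 1) * (1 - (k : F)) by ring] at h
  have hgall : ∀ c, g c ∈ X := by
    let A : AddSubgroup F :=
      { carrier := {c | g (c * (((k : F) - 1) * (1 - (k : F)))) ∈ X}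
        add_mem' := fun {a b} ha hb => by
          show g ((a + b) * _) ∈ X
          rw [add_mul, hg, ← pairT_mul]; exact mul_mem ha hb
        zero_mem' := by show g (0 * _) ∈ X; rw [zero_mul, hg, pairT_zero]; exact one_mem X
        neg_mem' := fun {a} ha => by
          show g (-a * _) ∈ X
          rw [neg_mul, hg, ← pairT_inv]; exact inv_mem ha }
    have hA : A = ⊤ := addSubgroup_eq_top hk fun j => by
      show g _ ∈ X
      induction (2 * j) with
      | zero => simpa using hgd
      | succ i ih =>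
        have := mul_mem (mul_mem htX ih) (inv_mem htX)
        rwa [hgt, ← mul_assoc, ← pow_succ'] at this
    intro c
    have hne : ((k : F) - 1) * (1 - (k : F)) ≠ 0 :=
      mul_ne_zero (sub_ne_zero.2 hk1) (sub_ne_zero.2 (Ne.symm hk1))
    have : g (c / (((k : F) - 1) * (1 - (k : F))) * (((k : F) - 1) * (1 - (k : F)))) ∈ X :=
      (hA ▸ AddSubgroup.mem_top _ : c / (((k : F) - 1) * (1 - (k : F))) ∈ A)
    rwa [div_mul_cancel₀ _ hne] at this
  have hnX : n ∈ X := (mul_mem_cancel_left (hgall 1)).1 hbX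
  have hu0 : u ∈ transCentres (sympBilin_isAlt (l + 1 + 1) F) X := by
    have hnu : (((n⁻¹ : BilinIsom _)).1) w = u := by
      rw [show w = ((n).1) u from (shift_ev (0 : Fin (l + 1))).symm]
      exact BilinIsom.inv_apply_self n u
    have h1 : ∀ c, sympT (sympBilin_isAlt (l + 1 + 1) F) w c ∈ X → sympT (sympBilin_isAlt (l + 1 + 1) F) u c ∈ X :=
      fun c hc => by
        rw [← hnu, ← sympT_conj]
        exact mul_mem (mul_mem (inv_mem hnX) hc) (inv_mem (inv_mem hnX))
    let A : AddSubgroup F :=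
      { carrier := {c | sympT (sympBilin_isAlt (l + 1 + 1) F) u c ∈ X}
        add_mem' := fun {a b} ha hb => by
          show sympT _ u (a + b) ∈ X
          rw [sympT_add]; exact mul_mem ha hb
        zero_mem' := by show sympT _ u 0 ∈ X; rw [sympT_zero]; exact one_mem X
        neg_mem' := fun {a} ha => by show sympT _ u (-a) ∈ X; rw [sympT_neg]; exact inv_mem ha }
    have hA : A = ⊤ := addSubgroup_eq_top hk fun j => by
      show sympT _ u _ ∈ X
      induction j with
      | zero => simpa using h1 1 hTX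
      | succ j ih =>
        have := mul_mem (mul_mem htX ih) (inv_mem htX)
        rw [sympT_conj, tor_ev, sympT_smul] at this
        rwa [show (k : F) ^ (2 * (j + 1)) = (k : F) ^ 2 * (k : F) ^ (2 * j) by ring]
    exact fun c => (hA ▸ AddSubgroup.mem_top c : c ∈ A)
  refine closure_centres hnX hu0 fun h1 => ?_
  have hf1 : fv (1 : Fin (l + 1 + 1)) ∈ transCentres (sympBilin_isAlt (l + 1 + 1) F) X := by
    have hall : ∀ i : Fin (l + 1 + 1), ev i ∈ transCentres (sympBilin_isAlt (l + 1 + 1) F) X := by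
      intro i
      induction i using Fin.induction with
      | zero => exact hu0
      | succ i ih => rw [← shift_ev]; exact transCentres_map ih hnX
    have h0 : fv (0 : Fin (l + 1 + 1)) ∈ transCentres (sympBilin_isAlt (l + 1 + 1) F) X := by
      rw [← shift_ev_last]; exact transCentres_map (hall _) hnX
    rw [show (1 : Fin (l + 1 + 1)) = (0 : Fin (l + 1)).succ from rfl, ← shift_fv]
    exact transCentres_map h0 hnX
  have himg : ((g 1).1) (fv 1) = u + fv 1 := by
    rw [hg, pairT_apply]
    simp [u, w, bform_ev, fv, add_comm]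
  refine ⟨u, ev_mem_plane 0, fv 1, fv_mem_plane _, ?_, ?_, himg ▸ transCentres_map hf1 (hgall 1)⟩
  · simp [u, ev]
  · simp [fv]

theorem two_gen_two [Finite F] (hl : 2 ≤ l) (h2 : ∀ x : F, x = 0 ∨ x = 1) :
    ∃ a b : BilinIsom (sympBilin (l + 1) F),
      Subgroup.closure ({a, b} : Set (BilinIsom (sympBilin (l + 1) F))) = ⊤ := by
  obtain ⟨l, rfl⟩ : ∃ p, l = p + 2 := ⟨l - 2, by omega⟩
  have hm1 : (-1 : F) = 1 := (h2 (-1)).resolve_left (by simp)
  have h11 : (1 : F) + 1 = 0 := by rw [← add_neg_cancel (1 : F), hm1]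
  let yl : (Fin (l + 2 + 1) ⊕ Fin (l + 2 + 1) → F) →ₗ[F] (Fin (l + 2 + 1) ⊕ Fin (l + 2 + 1) → F) :=
    { toFun := fun x => Sum.elim (fun j => if j = 0 then -x (Sum.inr 0) else x (Sum.inl j))
        (fun j => if j = 0 then x (Sum.inl 0) + x (Sum.inr 0) else x (Sum.inr j))
      map_add' := fun x y => by
        funext j; rcases j with a | a <;> by_cases h : a = 0 <;> simp [h] <;> abel
      map_smul' := fun c x => by
        funext j; rcases j with a | a <;> by_cases h : a = 0 <;> simp [h, mul_add] }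
  have hy : ∀ x y, sympBilin (l + 2 + 1) F (yl x) (yl y) = sympBilin (l + 2 + 1) F x y := by
    intro x z
    rw [sympBilin_eq_sum, sympBilin_eq_sum]
    refine Finset.sum_congr rfl fun j _ => ?_
    by_cases h : j = 0
    · subst h; simp [yl]; ring
    · simp [yl, h]
  set y := mkIsom yl hy with hydef
  set v : (Fin (l + 2 + 1) ⊕ Fin (l + 2 + 1) → F) := ev 1 + ev 2 with hv
  set T := sympT (sympBilin_isAlt (l + 2 + 1) F) v 1 with hT
  set n := shift (l + 2) F with hn
  have h10 : (1 : Fin (l + 2 + 1)) ≠ 0 := by simp [Fin.ext_iff]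
  have h20 : (2 : Fin (l + 2 + 1)) ≠ 0 := by
    simp [Fin.ext_iff, Nat.mod_eq_of_lt (show 2 < l + 2 + 1 by omega)]
  have hyv : ((y).1) v = v := by
    funext j; rcases j with a | a <;> by_cases h : a = 0 <;> simp [hydef, yl, hv, ev, h, h10.symm, h20.symm]
  have hy3 : y ^ 3 = 1 := by
    refine BilinIsom.ext' fun x => ?_
    rw [pow_succ, pow_two, BilinIsom.mul_apply', BilinIsom.mul_apply', BilinIsom.one_apply']
    funext j
    rcases j with a | a <;> by_cases h : a = 0 <;> simp [hydef, yl, h]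
    · linear_combination x (Sum.inl 0) * (h11) - x (Sum.inl 0) * h11 - x (Sum.inl 0) * h11
    · linear_combination - x (Sum.inr 0) * h11
  have hT2 : T * T = 1 := by rw [hT, ← sympT_add, h11, sympT_zero]
  have hc : Commute y T := by
    have := sympT_conj (sympBilin_isAlt (l + 2 + 1) F) y v 1
    rw [hyv, mul_inv_eq_iff_eq_mul] at this
    exact this
  refine ⟨y * T, n, ?_⟩
  set X := Subgroup.closure ({y * T, n} : Set (BilinIsom (sympBilin (l + 2 + 1) F)))
  have haX : y * T ∈ X := Subgroup.subset_closure (Or.inl rfl)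
  have hnX : n ∈ X := Subgroup.subset_closure (Or.inr rfl)
  have hTX : T ∈ X := by
    have h := pow_mem haX 3
    rwa [hc.mul_pow, hy3, one_mul, pow_succ, pow_two, hT2, one_mul] at h
  have hyX : y ∈ X := (mul_mem_cancel_right hTX).1 haX
  set C := transCentres (sympBilin_isAlt (l + 2 + 1) F) X
  have hvC : v ∈ C := fun c => by
    rcases h2 c with rfl | rfl
    · rw [sympT_zero]; exact one_mem X
    · exact hTX
  have hshift : ((n).1) (ev 0 + ev 1) = v := by
    rw [map_add, hv]
    congr 1
    · exact shift_ev (0 : Fin (l + 2))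
    · exact shift_ev (1 : Fin (l + 2))
  have h01C : ev 0 + ev 1 ∈ C := by
    have := transCentres_map hvC (inv_mem hnX)
    rwa [← hshift, BilinIsom.inv_apply_self] at this
  have hye : ((y).1) (ev 0) = fv 0 := by
    funext j; rcases j with a | a <;> by_cases h : a = 0 <;> simp [hydef, yl, ev, fv, h]
  have hy1 : ((y).1) (ev 1) = ev 1 := by
    funext j; rcases j with a | a <;> by_cases h : a = 0 <;> simp [hydef, yl, ev, h, h10.symm]
  have hf1 : fv 0 + ev 1 ∈ C := by
    have := transCentres_map h01C hyX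
    rwa [map_add, hye, hy1] at this
  have hef : ev 0 + fv 0 ∈ C := by
    have h := transCentres_add h01C hf1 (by
      rw [map_add, map_add, LinearMap.add_apply, LinearMap.add_apply, bform_fv, bform_fv, bform_ev, bform_ev]
      simp [ev, h10, h10.symm])
    convert h using 1
    have : ev (F := F) (1 : Fin (l + 2 + 1)) + ev 1 = 0 := by rw [← two_smul F]; simp [show (2 : F) = 0 by
      rw [← one_add_one_eq_two, h11]]
    rw [show ev 0 + ev 1 + (fv 0 + ev 1) = ev (F := F) (0 : Fin (l + 2 + 1)) + fv 0 + (ev 1 + ev 1) by abel,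
      this, add_zero]
  have hyef : ((y).1) (ev 0 + fv 0) = ev 0 := by
    rw [map_add, hye]
    funext j; rcases j with a | a <;> by_cases h : a = 0 <;>
      simp [hydef, yl, ev, fv, h, hm1, h11]
  refine closure_centres hnX (hyef ▸ transCentres_map hef hyX) fun h1 => ?_
  exact ⟨ev 0, ev_mem_plane 0, ev 1, ev_mem_plane _, by simp [ev], by simp [ev], h01C⟩

/-- Every symplectic group apart from `Sp₄(2)` is generated by two elements. -/
theorem two_gen [Finite F] (hm : 2 ≤ m) (hF : m = 2 → ∃ x : F, x ≠ 0 ∧ x ≠ 1) :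
    ∃ a b : BilinIsom (sympBilin m F), Subgroup.closure ({a, b} : Set (BilinIsom (sympBilin m F))) = ⊤ := by
  obtain ⟨l, rfl⟩ : ∃ l, m = l + 1 := ⟨m - 1, by omega⟩
  by_cases h3 : ∃ x : F, x ≠ 0 ∧ x ≠ 1
  · exact two_gen_big (by omega) h3
  · refine two_gen_two ?_ fun x => ?_
    · by_contra h
      exact h3 (hF (by omega))
    · push Not at h3
      exact or_iff_not_imp_left.2 (h3 x)

end Cfsg.Lib.SpTwoGen
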